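import Mathlib

/-!
Groups of commuting linear involutions: their order is at most two to the dimension, and in the case
of equality the centraliser is commutative.
-/

set_option autoImplicit false

namespace CfsgLib.LinearTwo

open Module

variable {F : Type*} [Field F]

/-- Restriction of a group of linear maps to a common invariant subspace. -/
noncomputable def restrictHom {V : Type*} [AddCommGroup V] [Module F V]
    (E : Subgroup (End F V)ˣ) (W : Submodule F V)
    (h : ∀ e ∈ E, ∀ x ∈ W, (e : End F V) x ∈ W) : E →* (End F W)ˣ :=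
  MonoidHom.toHomUnits
    { toFun := fun e => ((e : (End F V)ˣ) : End F V).restrict (h e e.2)
      map_one' := by ext x; rfl
      map_mul' := fun a b => by ext x; rfl }

theorem restrictHom_apply {V : Type*} [AddCommGroup V] [Module F V]
    (E : Subgroup (End F V)ˣ) (W : Submodule F V)
    (h : ∀ e ∈ E, ∀ x ∈ W, (e : End F V) x ∈ W) (e : E) (x : W) :
    (((restrictHom E W h e : (End F W)ˣ) : End F W) x : V) = ((e : (End F V)ˣ) : End F V) x := rfl

/-- Commuting involutions form a group of order at most `2 ^ dim`; at equality its centraliser is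
commutative. -/
theorem bound (h2 : (2 : F) ≠ 0) (n : ℕ) : ∀ (V : Type*) [AddCommGroup V] [Module F V]
    [FiniteDimensional F V], finrank F V = n → ∀ E : Subgroup (End F V)ˣ,
      (∀ a ∈ E, ∀ b ∈ E, a * b = b * a) → (∀ a ∈ E, a * a = 1) →
      Nat.card E ≤ 2 ^ n ∧ Finite E ∧ (Nat.card E = 2 ^ n →
        ∀ a b : End F V, (∀ e ∈ E, a * (e : End F V) = (e : End F V) * a) →
          (∀ e ∈ E, b * (e : End F V) = (e : End F V) * b) → a * b = b * a) := by
  classical
  induction n using Nat.strong_induction_on with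
  | _ n ih =>
  intro V _ _ _ hn E hcomm hsq
  by_cases hn0 : n = 0
  · subst hn0
    haveI : Subsingleton V := finrank_zero_iff.1 hn
    haveI : Subsingleton (End F V) := ⟨fun a b => LinearMap.ext fun x => Subsingleton.elim _ _⟩
    haveI : Subsingleton E := ⟨fun a b => Subtype.ext (Units.ext (Subsingleton.elim _ _))⟩
    refine ⟨le_of_eq (Nat.card_of_subsingleton (1 : E)), inferInstance, fun _ a b _ _ =>
      Subsingleton.elim _ _⟩
  by_cases hall : ∀ e ∈ E, (e : End F V) = 1 ∨ (e : End F V) = -1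
  · have hinj : Function.Injective fun e : E => decide (((e : (End F V)ˣ) : End F V) = 1) := by
      intro a b h
      simp only [decide_eq_decide] at h
      refine Subtype.ext (Units.ext ?_)
      rcases hall a a.2 with ha | ha
      · rw [ha, h.1 ha]
      · rcases hall b b.2 with hb | hb
        · rw [hb, h.2 hb]
        · rw [ha, hb]
    haveI : Finite E := Finite.of_injective _ hinj
    have hle : Nat.card E ≤ 2 := by
      refine (Nat.card_le_card_of_injective _ hinj).trans ?_
      simp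
    have h2n : 2 ≤ 2 ^ n := by
      simpa using Nat.pow_le_pow_right (show 2 > 0 by norm_num) (show 1 ≤ n by omega)
    refine ⟨hle.trans h2n, inferInstance, fun heq a b _ _ => ?_⟩
    have hn1 : n = 1 := by
      by_contra hne
      have : 2 ^ 2 ≤ 2 ^ n := Nat.pow_le_pow_right (by norm_num) (by omega)
      omega
    subst hn1
    obtain ⟨v, hv0, hv⟩ := finrank_eq_one_iff'.1 hn
    obtain ⟨ca, hca⟩ := hv (a v)
    obtain ⟨cb, hcb⟩ := hv (b v)
    refine LinearMap.ext fun x => ?_
    obtain ⟨c, rfl⟩ := hv x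
    show a (b (c • v)) = b (a (c • v))
    rw [map_smul, map_smul, map_smul, map_smul, ← hcb, ← hca, map_smul, map_smul, ← hca, ← hcb,
      smul_comm cb ca v]
  push Not at hall
  obtain ⟨e, he, he1, hem⟩ := hall
  set T : End F V := (e : End F V) with hT
  have hTT : T * T = 1 := by rw [hT, ← Units.val_mul, hsq e he, Units.val_one]
  set Wp := LinearMap.ker (T - 1) with hWp
  set Wm := LinearMap.ker (T + 1) with hWm
  have hmp : ∀ x, x ∈ Wp ↔ T x = x := fun x => by
    simp [hWp, LinearMap.mem_ker, sub_eq_zero]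
  have hmm : ∀ x, x ∈ Wm ↔ T x = -x := fun x => by
    simp [hWm, LinearMap.mem_ker, eq_neg_iff_add_eq_zero]
  have hTx : ∀ x, T (T x) = x := fun x => by
    have := LinearMap.congr_fun hTT x
    simpa using this
  have hdec : ∀ x : V, ∃ p ∈ Wp, ∃ m ∈ Wm, x = p + m := by
    intro x
    refine ⟨(2 : F)⁻¹ • (x + T x), ?_, (2 : F)⁻¹ • (x - T x), ?_, ?_⟩
    · rw [hmp, map_smul, map_add, hTx, add_comm]
    · rw [hmm, map_smul, map_sub, hTx, ← smul_neg, neg_sub]
    · rw [← smul_add, show x + T x + (x - T x) = (2 : F) • x by rw [two_smul]; abel, smul_smul,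
        inv_mul_cancel₀ h2, one_smul]
  have hcompl : IsCompl Wp Wm := by
    refine IsCompl.of_eq ?_ ?_
    · refine (Submodule.eq_bot_iff _).2 fun x hx => ?_
      have h1 := (hmp x).1 hx.1
      rw [(hmm x).1 hx.2] at h1
      have h3 : (2 : F) • x = 0 := by
        rw [two_smul]; nth_rewrite 1 [← h1]; exact neg_add_cancel x
      exact (smul_eq_zero.1 h3).resolve_left h2
    · refine eq_top_iff.2 fun x _ => ?_
      obtain ⟨p, hp, m, hm, rfl⟩ := hdec x
      exact Submodule.add_mem_sup hp hm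
  have hsum := Submodule.finrank_add_eq_of_isCompl hcompl
  have hpne : Wp ≠ ⊤ := fun h => he1 (LinearMap.ext fun x => by
    simpa using (hmp x).1 (h ▸ Submodule.mem_top))
  have hmne : Wm ≠ ⊤ := fun h => hem (LinearMap.ext fun x => by
    simpa using (hmm x).1 (h ▸ Submodule.mem_top))
  have hlt1 := Submodule.finrank_lt hpne
  have hlt2 := Submodule.finrank_lt hmne
  have hinv : ∀ a : End F V, a * T = T * a →
      (∀ x ∈ Wp, a x ∈ Wp) ∧ (∀ x ∈ Wm, a x ∈ Wm) := by
    intro a ha
    have hax : ∀ x, a (T x) = T (a x) := fun x => LinearMap.congr_fun ha x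
    exact ⟨fun x hx => by rw [hmp, ← hax, (hmp x).1 hx],
      fun x hx => by rw [hmm, ← hax, (hmm x).1 hx, map_neg]⟩
  have hE : ∀ a ∈ E, (a : End F V) * T = T * (a : End F V) := fun a ha => by
    rw [hT, ← Units.val_mul, ← Units.val_mul, hcomm a ha e he]
  set ρp := restrictHom E Wp fun a ha => (hinv _ (hE a ha)).1 with hρp
  set ρm := restrictHom E Wm fun a ha => (hinv _ (hE a ha)).2 with hρm
  obtain ⟨hb1, hf1, hc1⟩ := ih (finrank F Wp) (by omega) Wp rfl ρp.range
    (by rintro _ ⟨a, rfl⟩ _ ⟨b, rfl⟩; rw [← map_mul, ← map_mul]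
        exact congrArg ρp (Subtype.ext (hcomm a a.2 b b.2)))
    (by rintro _ ⟨a, rfl⟩; rw [← map_mul, ← map_one ρp]; exact congrArg ρp (Subtype.ext (hsq a a.2)))
  obtain ⟨hb2, hf2, hc2⟩ := ih (finrank F Wm) (by omega) Wm rfl ρm.range
    (by rintro _ ⟨a, rfl⟩ _ ⟨b, rfl⟩; rw [← map_mul, ← map_mul]
        exact congrArg ρm (Subtype.ext (hcomm a a.2 b b.2)))
    (by rintro _ ⟨a, rfl⟩; rw [← map_mul, ← map_one ρm]; exact congrArg ρm (Subtype.ext (hsq a a.2)))
  have hinj : Function.Injective fun a : E => ((⟨ρp a, a, rfl⟩ : ρp.range), (⟨ρm a, a, rfl⟩ : ρm.range)) := by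
    intro a b h
    simp only [Prod.mk.injEq, Subtype.mk.injEq] at h
    refine Subtype.ext (Units.ext (LinearMap.ext fun x => ?_))
    obtain ⟨p, hp, m, hm, rfl⟩ := hdec x
    have h1 := congrArg (fun u : (End F Wp)ˣ => (((u : End F Wp) ⟨p, hp⟩ : Wp) : V)) (congrArg Subtype.val h.1)
    have h3 := congrArg (fun u : (End F Wm)ˣ => (((u : End F Wm) ⟨m, hm⟩ : Wm) : V)) (congrArg Subtype.val h.2)
    simp only [hρp, hρm, restrictHom_apply] at h1 h3
    rw [map_add, map_add, h1, h3]
  haveI := hf1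
  haveI := hf2
  haveI : Finite E := Finite.of_injective _ hinj
  have hle : Nat.card E ≤ Nat.card ρp.range * Nat.card ρm.range := by
    rw [← Nat.card_prod]; exact Nat.card_le_card_of_injective _ hinj
  have hpow : 2 ^ finrank F Wp * 2 ^ finrank F Wm = 2 ^ n := by
    rw [← pow_add, hsum, hn]
  refine ⟨(hle.trans (Nat.mul_le_mul hb1 hb2)).trans hpow.le, inferInstance, fun heq a b ha hb => ?_⟩
  have e1 : Nat.card ρp.range = 2 ^ finrank F Wp := by
    refine le_antisymm hb1 (Nat.le_of_mul_le_mul_right ?_ (Nat.two_pow_pos (finrank F Wm)))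
    rw [hpow, ← heq]
    exact hle.trans (Nat.mul_le_mul_left _ hb2)
  have e2 : Nat.card ρm.range = 2 ^ finrank F Wm := by
    refine le_antisymm hb2 (Nat.le_of_mul_le_mul_left ?_ (Nat.two_pow_pos (finrank F Wp)))
    rw [hpow, ← heq]
    exact hle.trans (Nat.mul_le_mul_right _ hb1)
  have hcp := hc1 e1 (a.restrict (hinv a (ha e he)).1) (b.restrict (hinv b (hb e he)).1)
    (by rintro _ ⟨c, rfl⟩
        exact LinearMap.ext fun x => Subtype.ext (LinearMap.congr_fun (ha c c.2) x))
    (by rintro _ ⟨c, rfl⟩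
        exact LinearMap.ext fun x => Subtype.ext (LinearMap.congr_fun (hb c c.2) x))
  have hcm := hc2 e2 (a.restrict (hinv a (ha e he)).2) (b.restrict (hinv b (hb e he)).2)
    (by rintro _ ⟨c, rfl⟩
        exact LinearMap.ext fun x => Subtype.ext (LinearMap.congr_fun (ha c c.2) x))
    (by rintro _ ⟨c, rfl⟩
        exact LinearMap.ext fun x => Subtype.ext (LinearMap.congr_fun (hb c c.2) x))
  refine LinearMap.ext fun x => ?_
  obtain ⟨p, hp, m, hm, rfl⟩ := hdec x
  have h1 : a (b p) = b (a p) := congrArg Subtype.val (LinearMap.congr_fun hcp ⟨p, hp⟩)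
  have h3 : a (b m) = b (a m) := congrArg Subtype.val (LinearMap.congr_fun hcm ⟨m, hm⟩)
  show a (b (p + m)) = b (a (p + m))
  rw [map_add, map_add, map_add, map_add, h1, h3]

/-- Matrix form. -/
theorem bound_matrix (h2 : (2 : F) ≠ 0) {n : ℕ} (E : Subgroup (GL (Fin n) F))
    (hcomm : ∀ a ∈ E, ∀ b ∈ E, a * b = b * a) (hsq : ∀ a ∈ E, a * a = 1) :
    Nat.card E ≤ 2 ^ n ∧ (Nat.card E = 2 ^ n → ∀ a b : GL (Fin n) F,
      (∀ e ∈ E, a * e = e * a) → (∀ e ∈ E, b * e = e * b) → a * b = b * a) := by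
  let φ : GL (Fin n) F ≃* (End F (Fin n → F))ˣ :=
    Units.mapEquiv (Matrix.toLinAlgEquiv' (R := F) (n := Fin n)).toRingEquiv.toMulEquiv
  obtain ⟨h, -, hc⟩ := bound h2 n (Fin n → F) (finrank_fin_fun F) (E.map φ.toMonoidHom)
    (by rintro _ ⟨a, ha, rfl⟩ _ ⟨b, hb, rfl⟩; rw [← map_mul, ← map_mul, hcomm a ha b hb])
    (by rintro _ ⟨a, ha, rfl⟩; rw [← map_mul, hsq a ha, map_one])
  rw [Subgroup.card_map_of_injective (f := φ.toMonoidHom) φ.injective] at h hc
  refine ⟨h, fun heq a b ha hb => φ.injective (Units.ext ?_)⟩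
  rw [map_mul, map_mul, Units.val_mul, Units.val_mul]
  refine hc heq _ _ ?_ ?_
  · rintro _ ⟨c, hc, rfl⟩
    exact congrArg Units.val ((map_mul φ a c).symm.trans ((congrArg φ (ha c hc)).trans (map_mul φ c a)))
  · rintro _ ⟨c, hc, rfl⟩
    exact congrArg Units.val ((map_mul φ b c).symm.trans ((congrArg φ (hb c hc)).trans (map_mul φ c b)))

end CfsgLib.LinearTwo
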